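import Cfsg.Agent.Lib.Invol.AschCrit.Kernel.Sylow
import Cfsg.Agent.Lib.Invol.AschCrit.Sub
import Cfsg.Agent.Lib.Invol.AschCrit.CentModel
import Cfsg.Agent.Lib.Invol.AschCrit.CentTorusTools

/-!
Owner: helper29. Aschbacher's criterion: the kernel of unitary type has order two.
See `notes/aschbacher_U3_proof_helper27.md`, U3; instead of the automorphisms of the group of the members centralising
`zeta` the proof uses that the commutators of the two-groups centralising `E` at `a` lie in `E`.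

* `Crit.unitaryKernel`: the interface `UnitaryKernel`.
-/

set_option autoImplicit false
set_option linter.unusedSectionVars false
set_option linter.style.haveILetI false

namespace CfsgLib.AschCrit

open Subgroup MulAction CfsgLib.Lie.RankOne CfsgLib.Lie.RankOneClass
open CfsgLib.Signalizer (involution_sq)

universe u

variable {G : Type u} [Group G] [Finite G] {Ω : Type u} [MulAction G Ω]

namespace Crit

variable {D : Set G} (h : Crit Ω D)
include h

/-- A kernel of order more than two is impossible. -/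
theorem kernel_absurd (hf : Faithful G Ω) (IH : Below.{u, u} (Nat.card G)) (horb : OrbitBound Ω D) {v : G}
    {a b : Ω} {E : Subgroup G} {q : ℕ} {P R X Q : Subgroup G} {t₀ : G} (hFr : Frame D v a b E q 3)
    (hm : ModelAt D v a b E q 3 P R X Q t₀) (hT : KernelTight D v a b E q) : False := by
  classical
  haveI := h.finite_points
  haveI := Fact.mk Nat.prime_two
  have hl := hFr.data
  have hv := hFr.multi
  have hv2 : v * v = 1 := involution_sq hv.1
  have hv1 : v ≠ 1 := fun e => by have := hv.1; rw [e, orderOf_one] at this; omega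
  have hq4 := four_le_q hl
  obtain ⟨z, hzodd, hza, hzb, hzv, -, hzE, hzX', hzQ, hzfree⟩ := hm.zeta rfl
  have hz1 : z ≠ 1 := fun e1 => by
    have hle : Q ≤ E := fun y hy => hzfree y hy (by rw [e1]; simp)
    have h1 := Subgroup.card_le_of_le hle
    rw [hm.Q_card, hl.card_E] at h1
    have : q ^ 1 < q ^ 3 := Nat.pow_lt_pow_right (by omega) (by norm_num)
    rw [pow_one] at this
    omega
  have hEsq : ∀ e ∈ E, e * e = 1 := fun e he => by
    rcases eq_or_ne e 1 with e1 | e1
    · rw [e1, one_mul]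
    · exact h.sq (hl.mem e he e1).1
  have hEa : ∀ e ∈ E, e • a = a := fun e he => (hm.sub e (hm.X_le (hm.E_X he))).1
  have hzX : ∀ x ∈ X, Commute z x := by
    intro x hx
    set e := z * x * z⁻¹ * x⁻¹ with he
    have heE : e ∈ E := hzX' x hx
    have hpow : ∀ n : ℕ, z ^ n * x * (z ^ n)⁻¹ = e ^ n * x := by
      intro n
      induction n with
      | zero => simp
      | succ n ih =>
        calc z ^ (n + 1) * x * (z ^ (n + 1))⁻¹ = z * (z ^ n * x * (z ^ n)⁻¹) * z⁻¹ := by rw [pow_succ']; group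
          _ = z * (e ^ n * x) * z⁻¹ := by rw [ih]
          _ = z * e ^ n * z⁻¹ * (z * x * z⁻¹) := by group
          _ = e ^ n * (z * x * z⁻¹) := by rw [((hzE e heE).pow_right n).eq, mul_inv_cancel_right]
          _ = e ^ (n + 1) * x := by rw [pow_succ, he]; simp [mul_assoc]
    have h1 := hpow (orderOf z)
    rw [pow_orderOf_eq_one, one_mul, inv_one, mul_one, eq_comm, mul_eq_right] at h1
    obtain ⟨k, hk⟩ := hzodd
    rw [hk, pow_succ, pow_mul, pow_two, hEsq e heE, one_pow, one_mul] at h1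
    exact mul_inv_eq_iff_eq_mul.1 (mul_inv_eq_one.1 (he ▸ h1))
  -- the common fixed points of `v` and `z`
  have hchain : ∀ c : Ω, v • c = c → z • c = c → c ≠ a → ∃ e ∈ E, c = e • b := by
    intro c hvc hzc hca
    let F : Q → {c : Ω // v • c = c ∧ c ≠ a} := fun y => ⟨(y : G) • b, by
      rw [← mul_smul, ← (hm.Q_cent y y.2).1.eq, mul_smul, hl.fix_b], fun e1 => hl.ne (smul_left_cancel (y : G)
        (e1.trans (hm.sub y (hm.Q_le y.2)).1.symm)).symm⟩
    have hFs : Function.Surjective F := fun c => by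
      obtain ⟨y, hy, hyb⟩ := hm.Q_trans c.1 c.2.1 c.2.2
      exact ⟨⟨y, hy⟩, Subtype.ext hyb⟩
    have hcard : Nat.card {c : Ω // v • c = c ∧ c ≠ a} + 1 = q ^ 3 + 1 := by
      rw [← hl.card_fix, ← Finite.card_option]
      refine Nat.card_eq_of_bijective (fun o => o.elim ⟨a, hl.fix_a⟩ fun c => ⟨c.1, c.2.1⟩) ⟨?_, ?_⟩
      · rintro (_ | c) (_ | c') e1
        · rfl
        · exact absurd (congrArg Subtype.val e1 : a = _).symm c'.2.2
        · exact absurd (congrArg Subtype.val e1 :) c.2.2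
        · exact congrArg some (Subtype.ext (congrArg Subtype.val e1 :))
      · rintro ⟨c, hc⟩
        by_cases hca : c = a
        · exact ⟨none, Subtype.ext hca.symm⟩
        · exact ⟨some ⟨c, hc, hca⟩, rfl⟩
    have hFb := (Nat.bijective_iff_surjective_and_card F).2 ⟨hFs, by rw [hm.Q_card]; omega⟩
    obtain ⟨y, hy, rfl⟩ := hm.Q_trans c hvc hca
    have h1 : (⟨z * y * z⁻¹, hzQ y hy⟩ : Q) = ⟨y, hy⟩ := hFb.1 (Subtype.ext (by
      show (z * y * z⁻¹) • b = y • b
      rw [mul_smul, mul_smul, inv_smul_eq_iff.2 hzb.symm, hzc]))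
    have h2 : z * y * z⁻¹ = y := congrArg Subtype.val h1
    exact ⟨y, hzfree y hy (by rw [h2, mul_inv_cancel]; exact one_mem _), rfl⟩
  -- members at `b` centralise `z`
  obtain ⟨t, ht, hta, -⟩ := h.exists_swapper_centralised hl.ne ⊥ IsPGroup.of_bot
    (fun g hg => by rw [Subgroup.mem_bot.1 hg]; exact ⟨one_smul _ _, one_smul _ _⟩)
  have hbz : ∀ d ∈ D, d • b = b → Commute d z := by
    intro d hd hdb
    obtain ⟨e, he, hda⟩ := hT.chain d hd hdb
    set d' := z * d * z⁻¹ with hd'def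
    have hd' : d' ∈ D := h.conj d hd z
    have hd'b : d' • b = b := by rw [hd'def, mul_smul, mul_smul, inv_smul_eq_iff.2 hzb.symm, hdb, hzb]
    have hd'a : d' • a = e • b := by
      rw [hd'def, mul_smul, mul_smul, inv_smul_eq_iff.2 hza.symm, hda, ← mul_smul, (hzE e he).eq, mul_smul, hzb]
    by_contra hne
    have hne' : d ≠ d' := fun e1 => hne (mul_inv_eq_iff_eq_mul.1 (hd'def ▸ e1.symm)).symm
    have htt := h.sq ht
    have hcomm : Commute d d' := by
      have hE : ∀ f ∈ D, f • b = b → t * f * t ∈ E := fun f hf' hfb => hT.memsA _ (by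
          have := h.conj f hf' t
          rwa [inv_eq_of_mul_eq_one_right htt] at this)
        (by rw [mul_smul, mul_smul, hta, hfb, h.swap_back' ht hta])
      have h1 := (hl.comm _ (hE d hd hdb) _ (hE d' hd' hd'b)).map (MulAut.conj t).toMonoidHom
      have hred : ∀ x : G, t * (t * x) = x := fun x => by rw [← mul_assoc, htt, one_mul]
      simpa [inv_eq_of_mul_eq_one_right htt, mul_assoc, htt, hred] using h1
    refine hl.ne (h.fix_unique _ (h.commMul hf d hd d' hd' hne' hcomm) a b ?_ ?_)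
    · rw [mul_smul, hd'a, ← hda, ← mul_smul, h.sq hd, one_smul]
    · rw [mul_smul, hd'b, hdb]
  obtain ⟨e₀, he₀, he₀1⟩ : ∃ e ∈ E, e ≠ (1 : G) := by
    by_contra hc
    push Not at hc
    rw [← hl.card_E, (Subgroup.eq_bot_iff_forall E).2 hc, Subgroup.card_bot] at hq4
    omega
  obtain ⟨d₁, hd₁, hd₁b⟩ := h.exists_mem b
  -- the group of the members centralising `z`
  set S := cGrp D z with hSdef
  have hES : ∀ e ∈ E, e ∈ S := fun e he => by
    rcases eq_or_ne e 1 with e1 | e1
    · rw [e1]; exact one_mem _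
    · exact mem_cGrp (hl.mem e he e1).1 (hzE e he).symm
  have hd₁S : d₁ ∈ S := mem_cGrp hd₁ (hbz d₁ hd₁ hd₁b)
  let Δ := subPoints h S
  have hC := h.crit_sub hf S (hl.mem e₀ he₀ he₀1).1 hd₁ (hES e₀ he₀) hd₁S (hl.mem e₀ he₀ he₀1).2.1 hd₁b hl.ne
  haveI : Finite Δ := Subtype.finite
  have haΔ : a ∈ Δ := ⟨e₀, (hl.mem e₀ he₀ he₀1).1, hES e₀ he₀, (hl.mem e₀ he₀ he₀1).2.1⟩
  have hbΔ : b ∈ Δ := ⟨d₁, hd₁, hd₁S, hd₁b⟩
  set a' : Δ := ⟨a, haΔ⟩ with ha'
  set b' : Δ := ⟨b, hbΔ⟩ with hb'
  have hab' : b' ≠ a' := fun e1 => hl.ne (congrArg Subtype.val e1).symm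
  have hzΔ : ∀ c : Δ, z • (c : Ω) = c := fun c => by
    obtain ⟨d, hd, hdS, hdc⟩ := c.2
    exact h.fix_of_commute' hd (commute_of_mem_cGrp hdS).symm hdc
  set L := (MulAction.toPermHom S Δ).range with hLdef
  set π : S →* L := (MulAction.toPermHom S Δ).rangeRestrict with hπ
  have hπs : Function.Surjective π := MonoidHom.rangeRestrict_surjective _
  have hL : Crit Δ (π '' memsIn D S) := hC.image
  have hfL : Faithful L Δ := fun g hg => Subtype.ext (Equiv.ext hg)
  haveI : FaithfulSMul L Δ := faithfulSMul_iff.2 hfL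
  have hcl : Subgroup.closure (π '' memsIn D S) = ⊤ := by
    have h1 : Subgroup.closure (memsIn D S) = ⊤ := by
      refine eq_top_iff.2 (le_of_eq_of_le (Subgroup.closure_closure_coe_preimage (k := cMems D z)).symm ?_)
      exact Subgroup.closure_mono fun d hd => hd.1
    rw [← MonoidHom.map_closure, h1, Subgroup.map_top_of_surjective π hπs]
  have hSlt : Nat.card L < Nat.card G := by
    refine lt_of_le_of_lt (Nat.card_le_card_of_surjective π hπs) ?_
    refine lt_of_le_of_ne (Subgroup.card_le_card_group S) fun e1 => hz1 (h.eq_one_of_commute_all hf fun d hd => ?_)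
    exact (commute_of_mem_cGrp (t := z) (by rw [← hSdef, Subgroup.eq_top_of_card_eq S e1]; trivial : d ∈ cGrp D z)).symm
  have hn : NoMulti L Δ := IH L Δ _ hSlt hL hfL hcl
  -- `E` in it
  have hEmem : ∀ e (he : e ∈ E), e ≠ 1 → π ⟨e, hES e he⟩ ∈ π '' memsIn D S ∧ π ⟨e, hES e he⟩ • a' = a' :=
    fun e he he1 => ⟨⟨_, (hl.mem e he he1).1, rfl⟩, Subtype.ext (hEa e he)⟩
  have hEeq : ∀ e ∈ E, ∀ f ∈ E, e • b = f • b → e = f := by
    intro e he f hf' h1
    by_contra hne
    have h2 : (f * e) • b = b := by rw [mul_smul, h1, ← mul_smul, hEsq f hf', one_smul]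
    have h3 : f * e ≠ 1 := fun e2 => hne (by
      rw [eq_inv_of_mul_eq_one_right e2]; exact inv_eq_of_mul_eq_one_right (hEsq f hf'))
    exact hl.ne (h.fix_unique _ (hl.mem _ (mul_mem hf' he) h3).1 a b (hEa _ (mul_mem hf' he)) h2)
  have hinj : ∀ e (he : e ∈ E) f (hf' : f ∈ E), π ⟨e, hES e he⟩ = π ⟨f, hES f hf'⟩ → e = f :=
    fun e he f hf' e1 => hEeq e he f hf' (congrArg Subtype.val (congrArg (fun σ : L => σ • b') e1 :))
  have hr : ¬ RankOne L := by
    intro hr
    obtain ⟨f, hf', hfne⟩ : ∃ f ∈ E, f ≠ 1 ∧ f ≠ e₀ := by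
      by_contra hc
      push Not at hc
      have h1 : Nat.card E ≤ 2 := by
        rw [show (2 : ℕ) = Nat.card (Fin 2) by simp]
        refine Nat.card_le_card_of_injective (fun e : E => if (e : G) = 1 then (0 : Fin 2) else 1) fun e e' e1 => ?_
        by_cases h1 : (e : G) = 1 <;> by_cases h2 : (e' : G) = 1 <;>
          simp only [h1, h2, if_true, if_false] at e1 ⊢
        · exact Subtype.ext (h1.trans h2.symm)
        · exact absurd e1 (by decide)
        · exact absurd e1 (by decide)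
        · exact Subtype.ext ((hc e e.2 h1).trans (hc e' e'.2 h2).symm)
      rw [hl.card_E] at h1
      omega
    exact hfne.2 (hinj f hf' e₀ he₀ (hr _ _ (hL.inv _ (hEmem f hf' hfne.1).1) (hL.inv _ (hEmem e₀ he₀ he₀1).1)
      (by rw [← map_mul, ← map_mul]; exact congrArg π (Subtype.ext (hl.comm f hf' e₀ he₀).eq))))
  obtain ⟨h2, U, hUp, hset, hsw⟩ := hL.exists_setup hfL hn hr a'
  obtain ⟨τ, hτD, hτa⟩ := hsw b' hab'
  have hS := hset τ (hL.sq hτD) (hτa ▸ hab')
  -- the involutions at `a`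
  have hJE : ∀ j ∈ Cfsg.involutionsIn (stabilizer L a' : Set L), ∃ e, ∃ he : e ∈ E, e ≠ 1 ∧ π ⟨e, hES e he⟩ = j := by
    intro j hj
    obtain ⟨d, hd, hde⟩ := hL.mem_of_noMulti hfL hn
      (orderOf_eq_prime (by rw [pow_two]; exact hj.2.2) hj.2.1) hj.1
    have hda : (d : G) • a = a := congrArg Subtype.val (show π d • a' = a' by rw [hde]; exact hj.1)
    exact ⟨d, hT.memsA d hd hda, h.ne_one' hd, hde⟩
  have hEJ : ∀ e (he : e ∈ E), e ≠ 1 → π ⟨e, hES e he⟩ ∈ Cfsg.involutionsIn (stabilizer L a' : Set L) :=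
    fun e he he1 => ⟨(hEmem e he he1).2, hL.ne_one' (hEmem e he he1).1, hL.sq (hEmem e he he1).1⟩
  have hqq : qq L a' = q := by
    have h1 : Nat.card (Cfsg.involutionsIn (stabilizer L a' : Set L)) = Nat.card {e : E // e ≠ 1} := by
      refine (Nat.card_eq_of_bijective (fun e => ⟨π ⟨(e.1 : G), hES _ e.1.2⟩,
        hEJ _ e.1.2 fun e1 => e.2 (Subtype.ext e1)⟩) ⟨fun e e' e1 => ?_, fun j => ?_⟩).symm
      · exact Subtype.ext (Subtype.ext (hinj _ e.1.2 _ e'.1.2 (congrArg Subtype.val e1)))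
      · obtain ⟨e, he, he1, hje⟩ := hJE j.1 j.2
        exact ⟨⟨⟨e, he⟩, fun e1 => he1 (congrArg Subtype.val e1)⟩, Subtype.ext hje⟩
    haveI := Fintype.ofFinite E
    rw [qq, h1, ← hl.card_E, Nat.card_eq_fintype_card, Nat.card_eq_fintype_card, Fintype.card_subtype_compl,
      Fintype.card_subtype_eq]
    have := Fintype.card_pos (α := E)
    omega
  -- the points
  have hpts : Nat.card Δ = Nat.card U + 1 := (card_points hS).2
  have hXΔ : ∀ x ∈ X, x • b ∈ Δ := fun x hx => by
    refine ⟨x * d₁ * x⁻¹, h.conj d₁ hd₁ x,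
      mem_cGrp (h.conj d₁ hd₁ x) ?_, by rw [mul_smul, mul_smul, inv_smul_smul, hd₁b]⟩
    exact ((hzX x hx).symm.mul_left (hbz d₁ hd₁ hd₁b)).mul_left (hzX x hx).symm.inv_left
  have hlow : q ^ 2 ≤ Nat.card U := by
    have h1 : Nat.card (Option X) ≤ Nat.card Δ := by
      refine Nat.card_le_card_of_injective (fun o => o.elim a' fun x => ⟨(x : G) • b, hXΔ x x.2⟩) ?_
      have hxa : ∀ x : X, (x : G) • b ≠ a := fun x e1 =>
        hl.ne (smul_left_cancel (x : G) (e1.trans (hm.sub _ (hm.X_le x.2)).1.symm)).symm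
      rintro (_ | x) (_ | x') e1
      · rfl
      · exact absurd (congrArg Subtype.val e1 : a = _).symm (hxa x')
      · exact absurd (congrArg Subtype.val e1 :) (hxa x)
      · refine congrArg some (Subtype.ext ?_)
        have e2 : (x : G) • b = (x' : G) • b := congrArg Subtype.val e1
        set g := (x : G)⁻¹ * x' with hg
        have hgX : g ∈ X := mul_mem (inv_mem x.2) x'.2
        have hgb : g • b = b := by rw [hg, mul_smul, ← e2, inv_smul_smul]
        set e := v * g * v⁻¹ * g⁻¹ with he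
        have heE : e ∈ E := hm.RX v hm.u_mem g hgX
        have heb : e • b = b := by
          rw [he, mul_smul, mul_smul, mul_smul, inv_smul_eq_iff.2 hgb.symm, inv_smul_eq_iff.2 hl.fix_b.symm,
            hgb, hl.fix_b]
        have he1 : e = 1 := by
          by_contra hne
          exact hl.ne (h.fix_unique e (hl.mem e heE hne).1 a b (hEa e heE) heb)
        have hgE : g ∈ E := hm.RX_ker v hm.u_mem hv1 g hgX (mul_inv_eq_iff_eq_mul.1 (mul_inv_eq_one.1 (he ▸ he1)))
        have hg1 : g = 1 := by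
          by_contra hne
          exact hl.ne (h.fix_unique g (hl.mem g hgE hne).1 a b (hEa g hgE) hgb)
        exact inv_mul_eq_one.1 hg1
    rw [Finite.card_option, hm.X_card, hpts, ← pow_two] at h1
    omega
  -- a two-group over `U`
  set W := (U.comap π).map S.subtype with hW
  set M := stabilizer G a ⊓ centralizer (E : Set G) with hM
  have hWM : W ≤ M := by
    rintro _ ⟨g, hg, rfl⟩
    have hga : (g : G) • a = a := congrArg Subtype.val (show π g • a' = a' from hS.le hg)
    refine ⟨hga, Subgroup.mem_centralizer_iff.2 fun e he => ?_⟩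
    rcases eq_or_ne e 1 with e1 | e1
    · show e * (g : G) = g * e
      rw [e1, one_mul, mul_one]
    have hfe : (g : G) * e * (g : G)⁻¹ ∈ E := hT.memsA _ (h.conj e (hl.mem e he e1).1 g) (by
      rw [mul_smul, mul_smul, inv_smul_eq_iff.2 hga.symm, hEa e he, hga])
    have h1 := hinj _ hfe e he (by
      rw [show (⟨(g : G) * e * (g : G)⁻¹, hES _ hfe⟩ : S) = g * ⟨e, hES e he⟩ * g⁻¹ from Subtype.ext rfl,
        map_mul, map_mul, map_inv, ← J_central hS h2 (hEJ e he e1) hg, mul_inv_cancel_right])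
    exact (mul_inv_eq_iff_eq_mul.1 h1).symm
  have hvz : Commute v z := hzv.symm
  have hvΔ : ∀ c : Δ, v • (c : Ω) ∈ Δ := fun c => by
    obtain ⟨d, hd, hdS, hdc⟩ := c.2
    refine ⟨v * d * v⁻¹, h.conj d hd v, mem_cGrp (h.conj d hd v) ?_, by rw [mul_smul, mul_smul, inv_smul_smul, hdc]⟩
    exact (hvz.mul_left (commute_of_mem_cGrp hdS)).mul_left hvz.inv_left
  have hvW : ∀ g ∈ W, v * g * v⁻¹ ∈ W := by
    rintro _ ⟨g, hg, rfl⟩
    refine ⟨conjCGrp h hvz g, ?_, conjCGrp_coe (Ω := Ω) h hvz g⟩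
    have hgU : π g ∈ U := hg
    obtain ⟨n, hn⟩ := hUp ⟨π g, hgU⟩
    have hn' : π (g ^ 2 ^ n) = 1 := by rw [map_pow]; exact congrArg Subtype.val hn
    refine CfsgLib.RankOneInter.TIAuto.mem_Q_of_two_power hS (n := n) ?_ ?_
    · refine Subtype.ext ?_
      show ((conjCGrp h hvz g : S) : G) • a = a
      rw [conjCGrp_coe, mul_smul, mul_smul, inv_smul_eq_iff.2 hl.fix_a.symm,
        show (g : G) • a = a from congrArg Subtype.val (show π g • a' = a' from hS.le hgU), hl.fix_a]
    · rw [← map_pow, ← map_pow]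
      refine Subtype.ext (Equiv.ext fun c => Subtype.ext ?_)
      show ((conjCGrp h hvz (g ^ 2 ^ n) : S) : G) • (c : Ω) = c
      have hc' : v⁻¹ • (c : Ω) = v • (c : Ω) := by rw [inv_eq_of_mul_eq_one_right hv2]
      have h1 : ((g ^ 2 ^ n : S) : G) • v • (c : Ω) = v • (c : Ω) :=
        congrArg Subtype.val (congrArg (fun σ : L => σ • (⟨v • (c : Ω), hvΔ c⟩ : Δ)) hn' :
          π (g ^ 2 ^ n) • (⟨v • (c : Ω), hvΔ c⟩ : Δ) = (1 : L) • ⟨v • (c : Ω), hvΔ c⟩)
      rw [conjCGrp_coe, mul_smul, mul_smul, hc', h1, ← mul_smul, hv2, one_smul]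
  set N := W ⊔ zpowers v with hN
  have hNM : N ≤ M := sup_le hWM (zpowers_le.2 ⟨hl.fix_a, Subgroup.mem_centralizer_iff.2 fun e he =>
    ((hm.sub v (hm.R_le hm.u_mem)).2.1 e he).symm.eq⟩)
  have hWn : (W.subgroupOf N).Normal := by
    refine normal_subgroupOf_of_le_normalizer (sup_le le_normalizer (zpowers_le.2 ?_))
    exact mem_normalizer_iff_map_conj_eq.2 (eq_of_le_of_card_ge (by rintro _ ⟨g, hg, rfl⟩; exact hvW g hg)
      (Subgroup.card_map_of_injective (MulEquiv.injective _)).ge)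
  obtain ⟨K0, hK0⟩ := ((IsPGroup.of_card (p := 2) (n := 1)
    (by rw [Nat.card_zpowers, hv.1, pow_one]) : IsPGroup 2 (zpowers v)).comap_subtype (K := N)).exists_le_sylow
  set K := (K0 : Subgroup N).map N.subtype with hK
  have hKp : IsPGroup 2 K := K0.2.map _
  have hvK : v ∈ K := ⟨⟨v, mem_sup_right (mem_zpowers v)⟩, hK0 (mem_zpowers v), rfl⟩
  have hcomm := h.comm_mem_of_two horb hFr hm hT hKp ((map_subtype_le _).trans hNM)
  have hlift : ∀ y ∈ U, ∃ k : S, (k : G) ∈ K ∧ π k = y := by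
    haveI := hWn
    have h1 : Odd (K.relIndex W) := by
      have e1 : K.relIndex W = (K0 : Subgroup N).relIndex (W.subgroupOf N) := by
        have e0 := relIndex_map_map_of_injective (K0 : Subgroup N) (W.subgroupOf N) N.subtype_injective
        rwa [map_subgroupOf_eq_of_le (le_sup_left : W ≤ N)] at e0
      rw [e1]
      exact (Nat.odd_iff.2 (Nat.two_dvd_ne_zero.1 K0.not_dvd_index)).of_dvd_nat
        (relIndex_dvd_index_of_normal' _ _)
    set KS := K.subgroupOf S ⊓ U.comap π with hKS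
    have h2' : KS.relIndex (U.comap π) = K.relIndex W := by
      rw [hKS, inf_relIndex_right, hW, ← relIndex_comap, Subgroup.subgroupOf]
    have h3 : (KS.map π).relIndex U ∣ K.relIndex W := by
      rw [← h2', ← map_comap_eq_self_of_surjective hπs U, relIndex_map_map]
      rw [map_comap_eq_self_of_surjective hπs U, sup_eq_left.2 (ker_le_comap π U)]
      exact relIndex_dvd_of_le_left _ le_sup_left
    have h4 : (KS.map π).relIndex U = 1 := by
      obtain ⟨n, hn⟩ := (hUp.index (((KS.map π).subgroupOf U)))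
      rcases n with _ | n
      · exact hn
      · exfalso
        have h5 := h1.of_dvd_nat h3
        rw [relIndex, hn] at h5
        exact h5.not_two_dvd_nat (dvd_pow_self 2 n.succ_ne_zero)
    intro y hy
    obtain ⟨k, hk, hky⟩ := relIndex_eq_one.1 h4 hy
    exact ⟨k, hk.1, hky⟩
  have hptk : ∀ c : Δ, c ≠ a' → ∃ k : S, (k : G) ∈ K ∧ (k : G) • b = c := fun c hc => by
    obtain ⟨⟨y, hy⟩, hyc, -⟩ := CfsgLib.Lie.RankOne.existsUnique_smul hS b' c hab' hc
    obtain ⟨k, hk, rfl⟩ := hlift y hy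
    exact ⟨k, hk, congrArg Subtype.val (hyc : π k • b' = c)⟩
  -- there are at most `q ^ 2` of them
  have hKM : ∀ k ∈ K, k • a = a ∧ ∀ e ∈ E, Commute k e := fun k hk => by
    have h1 := hNM (map_subtype_le _ hk)
    exact ⟨h1.1, fun e he => (Subgroup.mem_centralizer_iff.1 h1.2 e he).symm⟩
  have hUne : Nat.card {c : Δ // c ≠ a'} = Nat.card U := by
    haveI := Fintype.ofFinite Δ
    rw [Nat.card_eq_fintype_card, Fintype.card_subtype_compl, Fintype.card_subtype_eq, ← Nat.card_eq_fintype_card,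
      hpts, Nat.add_sub_cancel]
  choose k hkK hkc using fun c : {c : Δ // c ≠ a'} => hptk c.1 c.2
  let φ : {c : Δ // c ≠ a'} → E := fun c => ⟨v * k c * v⁻¹ * (k c : G)⁻¹, hcomm v hvK _ (hkK c)⟩
  have key : ∀ c c', φ c = φ c' → ∃ e ∈ E, ((c'.1 : Δ) : Ω) = e • ((c.1 : Δ) : Ω) := by
    intro c c' e1
    have e2 : v * k c * v⁻¹ * (k c : G)⁻¹ = v * k c' * v⁻¹ * (k c' : G)⁻¹ := congrArg Subtype.val e1
    set g : S := (k c)⁻¹ * k c' with hg
    have hgv : Commute v (g : G) := by
      refine mul_inv_eq_iff_eq_mul.1 ?_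
      show v * ((k c : G)⁻¹ * k c') * v⁻¹ = (k c : G)⁻¹ * k c'
      calc v * ((k c : G)⁻¹ * k c') * v⁻¹
          = (k c : G)⁻¹ * (v * k c * v⁻¹ * (k c : G)⁻¹)⁻¹ * (v * k c' * v⁻¹ * (k c' : G)⁻¹) * k c' := by group
        _ = _ := by rw [← e2]; group
    have hgΔ : (g : G) • b ∈ Δ := (g • b' : Δ).2
    have hga : (g : G) • a = a := by
      show ((k c : G)⁻¹ * k c') • a = a
      rw [mul_smul, (hKM _ (hkK c')).1, inv_smul_eq_iff, (hKM _ (hkK c)).1]
    obtain ⟨e, he, heb⟩ := hchain ((g : G) • b) (by rw [← mul_smul, hgv.eq, mul_smul, hl.fix_b])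
      (hzΔ ⟨_, hgΔ⟩) (fun e3 => hl.ne (smul_left_cancel (g : G) (e3.trans hga.symm)).symm)
    refine ⟨e, he, ?_⟩
    rw [← hkc c', ← hkc c, ← mul_smul e, ← ((hKM _ (hkK c)).2 e he).eq, mul_smul, ← heb, ← mul_smul]
    congr 1
    show (k c' : G) = k c * ((k c : G)⁻¹ * k c')
    group
  have hle : Nat.card U ≤ q ^ 2 := by
    rw [← hUne, pow_two, ← hl.card_E, ← Nat.card_prod]
    have hrep : ∀ c, ∃ e ∈ E, ((c.1 : Δ) : Ω) =
        e • (((Function.surjInv (Set.rangeFactorization_surjective (f := φ)) ⟨φ c, c, rfl⟩).1 : Δ) : Ω) := fun c =>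
      key _ c (congrArg Subtype.val
        (Function.surjInv_eq (Set.rangeFactorization_surjective (f := φ)) ⟨φ c, c, rfl⟩))
    choose e he hec using hrep
    refine Nat.card_le_card_of_injective (fun c => (φ c, (⟨e c, he c⟩ : E))) fun c c' e1 => ?_
    obtain ⟨e2, e3⟩ := Prod.ext_iff.1 e1
    refine Subtype.ext (Subtype.ext ?_)
    rw [hec c, hec c', show e c = e c' from congrArg Subtype.val e3]
    have e4 : (⟨φ c, c, rfl⟩ : Set.range φ) = ⟨φ c', c', rfl⟩ := Subtype.ext e2
    rw [e4]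
  have hU2 : Nat.card U = q ^ 2 := le_antisymm hle hlow
  -- Suzuki type has no orbit of `q + 1` points
  haveI : IsSimpleGroup L := by
    have hfam := (hL.rankOne_or_family hfL hn).resolve_left hr
    haveI := CfsgLib.RankOneInter.Final.isSimple_of_family hfam
    have htop : Cfsg.pElementClosure 2 (⊤ : Subgroup L) = ⊤ := by
      rw [eq_top_iff]
      refine le_of_eq_of_le hcl.symm ((Subgroup.closure_le _).2 ?_)
      intro d hd
      show d ∈ Cfsg.pElementClosure 2 (⊤ : Subgroup L)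
      exact Subgroup.subset_closure ⟨Subgroup.mem_top d, 1, by rw [pow_one]; exact hL.inv d hd⟩
    exact ((MulEquiv.subgroupCongr htop).trans Subgroup.topEquiv).isSimpleGroup_congr.1 inferInstance
  set C := ((centralizer ({v} : Set G)).subgroupOf S).map π with hC'
  have hCmem : ∀ g : S, Commute (g : G) v → π g ∈ C := fun g hg =>
    ⟨g, Subgroup.mem_subgroupOf.2 (mem_centralizer_singleton_iff.2 hg), rfl⟩
  obtain ⟨e₁, he₁, he₁a⟩ := hT.chain d₁ hd₁ hd₁b
  have horb : ∀ p : Δ, p ∈ MulAction.orbit C a' ↔ p = a' ∨ ∃ e ∈ E, (p : Ω) = e • b := by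
    intro p
    refine ⟨?_, ?_⟩
    · rintro ⟨⟨_, g, hg, rfl⟩, rfl⟩
      by_cases hca : (g : G) • a = a
      · exact Or.inl (Subtype.ext hca)
      refine Or.inr (hchain ((g : G) • a) ?_ (hzΔ (g • a')) hca)
      rw [← mul_smul, ← (mem_centralizer_singleton_iff.1 (Subgroup.mem_subgroupOf.1 hg)), mul_smul, hl.fix_a]
    · rintro (rfl | ⟨e, he, hp⟩)
      · exact MulAction.mem_orbit_self _
      set g : S := ⟨e, hES e he⟩ * ⟨e₁, hES e₁ he₁⟩⁻¹ * ⟨d₁, hd₁S⟩ with hg
      have hEv : ∀ f ∈ E, Commute f v := fun f hf' => by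
        rcases eq_or_ne f 1 with e2 | e2
        · rw [e2]; exact Commute.one_left _
        · exact (hl.mem f hf' e2).2.2
      refine ⟨⟨π g, hCmem g ?_⟩, Subtype.ext ?_⟩
      · exact ((hEv e he).mul_left (hEv e₁ he₁).inv_left).mul_left (hT.memsB d₁ hd₁ hd₁b)
      · show (e * e₁⁻¹ * d₁) • a = p
        rw [mul_smul, he₁a, mul_smul, inv_smul_smul, hp]
  have horbc : Nat.card (MulAction.orbit C a') = q + 1 := by
    rw [← hl.card_E, ← Finite.card_option]
    have hmem : ∀ e ∈ E, e • b ∈ Δ := fun e he => ((⟨e, hES e he⟩ : S) • b' : Δ).2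
    have hne : ∀ e ∈ E, e • b ≠ a := fun e he e1 => hl.ne (smul_left_cancel e (e1.trans (hEa e he).symm)).symm
    refine (Nat.card_eq_of_bijective (fun o => o.elim (⟨a', (horb a').2 (Or.inl rfl)⟩ : MulAction.orbit C a')
      fun e : E => ⟨⟨(e : G) • b, hmem e e.2⟩, (horb _).2 (Or.inr ⟨e, e.2, rfl⟩)⟩) ⟨?_, ?_⟩).symm
    · rintro (_ | e) (_ | e') e1
      · rfl
      · exact absurd (congrArg (fun p : MulAction.orbit C a' => ((p : Δ) : Ω)) e1).symm (hne e' e'.2)
      · exact absurd (congrArg (fun p : MulAction.orbit C a' => ((p : Δ) : Ω)) e1) (hne e e.2)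
      · have e2 : (e : G) • b = (e' : G) • b := congrArg (fun p : MulAction.orbit C a' => ((p : Δ) : Ω)) e1
        exact congrArg some (Subtype.ext (hEeq _ e.2 _ e'.2 e2))
    · rintro ⟨p, hp⟩
      rcases (horb p).1 hp with rfl | ⟨e, he, hpe⟩
      · exact ⟨none, rfl⟩
      · exact ⟨some ⟨e, he⟩, Subtype.ext (Subtype.ext hpe.symm)⟩
  refine (not_dvd_card_setup hS h2).1 (by rw [hU2, hqq]) ?_
  rw [hqq, ← horbc, Nat.card_coe_set_eq, ← MulAction.index_stabilizer C a']
  exact (Subgroup.index_dvd_card _).trans (Subgroup.card_subgroup_dvd_card C)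

/-- The kernel of unitary type has order two. -/
theorem unitaryKernel (hf : Faithful G Ω) (IH : Below.{u, u} (Nat.card G)) (hform : Formula Ω D)
    (horb : OrbitBound Ω D) : UnitaryKernel Ω D := by
  classical
  intro v a b E q P R X Q t₀ hFr _ hm
  have hv1 : v ≠ 1 := fun e => by have := hFr.multi.1; rw [e, orderOf_one] at this; omega
  by_contra hne
  obtain ⟨w, hw, hw1, hwv⟩ : ∃ w ∈ R, w ≠ 1 ∧ w ≠ v := by
    by_contra hc
    push Not at hc
    apply hne
    have hset : (R : Set G) = {1, v} := by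
      ext r
      refine ⟨fun hr => ?_, ?_⟩
      · rcases eq_or_ne r 1 with e | e
        · exact Or.inl e
        · exact Or.inr (hc r hr e)
      · rintro (rfl | rfl)
        exacts [one_mem _, hm.u_mem]
    rw [← SetLike.coe_sort_coe, hset, Nat.card_coe_set_eq, Set.ncard_pair hv1.symm]
  exact h.kernel_absurd hf IH horb hFr hm (h.kernelTight hf IH hform hFr hm hw hw1 hwv)

end Crit

end CfsgLib.AschCrit
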