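import Cfsg.Agent.Lib.Invol.AschCrit.UnitaryKernelDef
import Cfsg.Agent.Lib.Invol.AschCrit.CentBend
import Cfsg.Agent.Lib.Invol.AschCrit.CentTorus
import Cfsg.Agent.Lib.Invol.AschCrit.ModelCover
import Cfsg.Agent.Lib.Bender.GroupLemmas

/-!
Owner: helper29. Aschbacher's criterion, the kernel of unitary type: if it is not of order two, the members
centralising `u` are transitive on the points `u` moves. See `notes/aschbacher_U3_proof_helper27.md`, U3.

* `Crit.odd_stab`: in `<D cap C(u)>` the stabiliser of a moved point has odd order.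
* `KernelTight`, `Crit.kernelTight`: the consequences of transitivity and the counting formula.
-/

set_option autoImplicit false
set_option linter.unusedSectionVars false
set_option linter.style.haveILetI false

namespace CfsgLib.AschCrit

open Subgroup MulAction CfsgLib.Lie.RankOne CfsgLib.Lie.RankOneClass
open CfsgLib.OddTransitive.RankOne (involutionGroup)
open CfsgLib.Signalizer (involution_sq)

universe u

variable {G : Type u} [Group G] [Finite G] {Ω : Type u} [MulAction G Ω]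

/-- What a kernel of order more than two gives. -/
structure KernelTight (D : Set G) (u : G) (a b : Ω) (E : Subgroup G) (q : ℕ) : Prop where
  count : ∃ m, Odd m ∧ Nat.card Ω - 1 = q ^ 4 * m
  memsA : ∀ d ∈ D, d • a = a → d ∈ E
  memsB : ∀ d ∈ D, d • b = b → Commute d u
  chain : ∀ d ∈ D, d • b = b → ∃ e ∈ E, d • a = e • b

namespace Crit

variable {D : Set G} (h : Crit Ω D)
include h

/-- The stabiliser of a moved point among the members centralising `u` has odd order. -/
theorem odd_stab (hf : Faithful G Ω) (IH : Below.{u, u} (Nat.card G)) {v : G} {a b : Ω} {E : Subgroup G}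
    {q : ℕ} (hv : IsMulti Ω v) (hl : LData D v a b E q 3) {p : Ω} (hp : v • p ≠ p) :
    Odd (Nat.card (stabilizer (cGrp D v) p)) := by
  classical
  haveI := h.finite_points
  haveI := Fact.mk Nat.prime_two
  by_contra hodd
  obtain ⟨⟨g, hgp⟩, hgo⟩ := exists_prime_orderOf_dvd_card' 2
    (even_iff_two_dvd.1 (Nat.not_odd_iff_even.1 hodd))
  rw [Subgroup.orderOf_mk] at hgo
  have hgG : orderOf (g : G) = 2 := by rw [Subgroup.orderOf_coe]; exact hgo
  have hgp' : (g : G) • p = p := hgp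
  have hker := h.odd_kerGrp hf IH hv hl
  set π := cProj Ω D v with hπ
  have hg1 : π g ≠ 1 := fun e => by
    have hd := Subgroup.orderOf_dvd_natCard (kerGrp Ω D v) (mem_kerGrp.2 ⟨g.2, e⟩ : (g : G) ∈ kerGrp Ω D v)
    rw [hgG] at hd
    exact hker.not_two_dvd_nat hd
  have hg2 : π g * π g = 1 := by
    rw [← map_mul, show g * g = 1 from involution_sq hgo, map_one]
  have hord : orderOf (π g) = 2 := orderOf_eq_prime (by rw [pow_two, hg2]) hg1
  haveI : FaithfulSMul (cImage Ω D v) (MulAction.fixedBy Ω v) :=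
    faithfulSMul_iff.2 fun g hg => Subtype.ext (Equiv.ext hg)
  obtain ⟨c, hc⟩ : ∃ c : MulAction.fixedBy Ω v, π g • c = c := by
    obtain ⟨c, hc⟩ := (IsPGroup.of_card (p := 2) (n := 1)
      (by rw [Nat.card_zpowers, hord, pow_one]) : IsPGroup 2 (zpowers (π g))).nonempty_fixed_point_of_prime_not_dvd_card
      (MulAction.fixedBy Ω v) (by
        rw [show Nat.card (MulAction.fixedBy Ω v) = q ^ 3 + 1 from hl.card_fix]
        obtain ⟨s, hs, rfl⟩ := hl.pow
        refine Odd.not_two_dvd_nat (Even.add_one ?_)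
        exact Nat.even_pow.2 ⟨Nat.even_pow.2 ⟨even_two, by omega⟩, by norm_num⟩)
    exact ⟨c, hc ⟨π g, mem_zpowers _⟩⟩
  obtain ⟨d, hd, hdg⟩ := (h.cImage_crit hv).mem_of_noMulti (fun g hg => Subtype.ext (Equiv.ext hg))
    (h.cImage_noMulti hf IH hv) hord hc
  have hd' : (d : G) ∈ D := hd
  have hgD : (g : G) ∈ D := by
    by_contra hgD
    have hev := h.even_of_not_mem hd' (involution_sq hgG) hgD
    have hk : (d : G) * g ∈ kerGrp Ω D v := mem_kerGrp.2 ⟨(d * g).2, by
      show π (d * g) = 1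
      rw [map_mul, show π d = π g from hdg, hg2]⟩
    exact Nat.not_even_iff_odd.2 (hker.of_dvd_nat (Subgroup.orderOf_dvd_natCard _ hk)) hev
  exact hp (h.fix_of_commute' hgD (commute_of_mem_cGrp g.2).symm hgp')

/-- A kernel of order more than two. -/
theorem kernelTight (hf : Faithful G Ω) (IH : Below.{u, u} (Nat.card G)) (hform : Formula Ω D) {v : G} {a b : Ω}
    {E : Subgroup G} {q : ℕ} {P R X Q : Subgroup G} {t₀ : G} (hFr : Frame D v a b E q 3)
    (hm : ModelAt D v a b E q 3 P R X Q t₀) {w : G} (hw : w ∈ R) (hw1 : w ≠ 1) (hwv : w ≠ v) :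
    KernelTight D v a b E q := by
  classical
  haveI := h.finite_points
  haveI := Fact.mk Nat.prime_two
  have hl := hFr.data
  have hv := hFr.multi
  have hv2 : v * v = 1 := involution_sq hv.1
  have hv1 : v ≠ 1 := fun e => by have := hv.1; rw [e, orderOf_one] at this; omega
  have hq4 := four_le_q hl
  have hsub : ∀ r ∈ R, r • a = a ∧ r • b = b ∧ Commute r v ∧ ∀ e ∈ E, Commute r e := fun r hr => by
    have h1 := hm.R_sub hr
    have hc := Subgroup.mem_centralizer_iff.1 h1.2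
    exact ⟨h1.1.1, h1.1.2, (hc v (Set.mem_insert _ _)).symm,
      fun e he => (hc e (Set.mem_insert_of_mem _ he)).symm⟩
  have hEsq : ∀ e ∈ E, e * e = 1 := fun e he => by
    rcases eq_or_ne e 1 with e1 | e1
    · rw [e1, one_mul]
    · exact h.sq (hl.mem e he e1).1
  -- the point `p` and the four group
  obtain ⟨e₀, he₀, he₀1⟩ : ∃ e ∈ E, e ≠ (1 : G) := by
    by_contra hc
    push Not at hc
    rw [← hl.card_E, (Subgroup.eq_bot_iff_forall E).2 hc, Subgroup.card_bot] at hq4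
    omega
  obtain ⟨x, hx, hxe⟩ := hm.RX_onto v hm.u_mem hv1 e₀ he₀
  have hxa : x • a = a := (hm.sub x (hm.X_le hx)).1
  set c : G → G := fun r => r * x * r⁻¹ * x⁻¹ with hc
  have hcE : ∀ r ∈ R, c r ∈ E := fun r hr => hm.RX r hr x hx
  have hcp : ∀ r ∈ R, r • (x • b) = c r • (x • b) := fun r hr => by
    conv_rhs => rw [← (hsub r hr).2.1]
    rw [← mul_smul, ← mul_smul, ← mul_smul]
    congr 1
    simp only [hc]; group
  set p := x • b with hp
  obtain ⟨e, he_def⟩ : ∃ e, e = c v := ⟨_, rfl⟩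
  obtain ⟨e', he'_def⟩ : ∃ e', e' = c w := ⟨_, rfl⟩
  have heE : e ∈ E := he_def ▸ hcE v hm.u_mem
  have he'E : e' ∈ E := he'_def ▸ hcE w hw
  have he1 : e ≠ 1 := by rw [he_def, hc]; show v * x * v⁻¹ * x⁻¹ ≠ 1; rw [hxe]; exact he₀1
  have hvep : v • p = e • p := he_def ▸ hcp v hm.u_mem
  have hwep : w • p = e' • p := he'_def ▸ hcp w hw
  have hxnE : x ∉ E := fun hxE => he1 (by
    rw [he_def]
    show v * x * v⁻¹ * x⁻¹ = 1
    rw [((hsub v hm.u_mem).2.2.2 x hxE).eq, mul_inv_cancel_right, mul_inv_cancel])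
  have hcne : ∀ r ∈ R, r ≠ 1 → c r ≠ 1 := fun r hr hr1 e1 =>
    hxnE (hm.RX_ker r hr hr1 x hx (mul_inv_eq_iff_eq_mul.1 (mul_inv_eq_one.1 e1)))
  have he'1 : e' ≠ 1 := he'_def ▸ hcne w hw hw1
  have hee' : e ≠ e' := fun e1 => hcne (w * v) (mul_mem hw hm.u_mem)
      (fun e2 => hwv (by rw [eq_inv_of_mul_eq_one_left e2]; exact inv_eq_of_mul_eq_one_right hv2)) (by
    show w * v * x * (w * v)⁻¹ * x⁻¹ = 1
    calc w * v * x * (w * v)⁻¹ * x⁻¹ = w * (v * x * v⁻¹ * x⁻¹) * w⁻¹ * (w * x * w⁻¹ * x⁻¹) := by group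
      _ = e * e' := by
        rw [show v * x * v⁻¹ * x⁻¹ = e from he_def.symm, ((hsub w hw).2.2.2 e heE).eq, mul_inv_cancel_right, he'_def]
      _ = 1 := by rw [← e1, hEsq e heE])
  have hvp : v • p ≠ p := fun e1 => by
    rw [hvep] at e1
    have h2 : a = p := h.fix_unique e (hl.mem e heE he1).1 a p (hl.mem e heE he1).2.1 e1
    exact hl.ne (smul_left_cancel x (hxa.trans h2))
  -- the group on the fixed points
  haveI : FaithfulSMul (cImage Ω D v) (MulAction.fixedBy Ω v) :=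
    faithfulSMul_iff.2 fun g hg => Subtype.ext (Equiv.ext hg)
  obtain ⟨U, hB⟩ := h.bend hf IH hv hl
  haveI := hB.simple
  set a' := fixPt hl.fix_a with ha'
  set b' := fixPt hl.fix_b with hb'
  have hab' : b' ≠ a' := fun e => hl.ne (congrArg Subtype.val e).symm
  set π := cProj Ω D v with hπ
  have hπsurj : Function.Surjective π := MonoidHom.rangeRestrict_surjective _
  obtain ⟨t, ht, hta, htc⟩ := h.exists_swapper_centralised hl.ne _
    (isPGroup_sup_involution (IsPGroup.of_bot (p := 2) (G := G)) hv.1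
      (fun g hg => by rw [Subgroup.mem_bot.1 hg]; exact Commute.one_left v))
    (fix_sup (fun g hg => by rw [Subgroup.mem_bot.1 hg]; exact ⟨one_smul _ _, one_smul _ _⟩) hl.fix_a hl.fix_b)
  have htv : Commute t v := (htc v (mem_sup_right (mem_zpowers v))).symm
  set τ : cGrp D v := ⟨t, mem_cGrp ht htv⟩ with hτ
  have hτa : π τ • a' = b' := Subtype.ext hta
  have hS := hB.setup (π τ) ((h.cImage_crit hv).sq (h.cProj_mem (d := τ) ht)) (by rw [hτa]; exact hab')
  have h2 := hB.rank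
  have hqJ : Nat.card (Cfsg.involutionsIn (stabilizer (cImage Ω D v) a' : Set (cImage Ω D v))) = q - 1 := by
    rw [← hB.qq_eq, qq, Nat.add_sub_cancel]
  -- the stabiliser of `p`
  set St := stabilizer (cGrp D v) p with hSt
  set H := St.map π with hH
  have hHodd : Odd (Nat.card H) := (h.odd_stab hf IH hv hl hvp).of_dvd_nat (Subgroup.card_map_dvd _ _)
  have hJ : ∀ f (hf' : f ∈ E), f ≠ 1 → π ⟨f, hB.memE f hf'⟩ ∈
      Cfsg.involutionsIn (stabilizer (cImage Ω D v) a' : Set (cImage Ω D v)) := fun f hf' hf1 => hB.J_mem f hf' hf1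
  set j := π ⟨e, hB.memE e heE⟩ with hj
  set j' := π ⟨e', hB.memE e' he'E⟩ with hj'
  have hconj : ∀ {k : cImage Ω D v}, (∀ y ∈ H, k * y * k⁻¹ ∈ H) → k ∈ normalizer (H : Set (cImage Ω D v)) :=
    fun {k} hk => mem_normalizer_iff_map_conj_eq.2 (eq_of_le_of_card_ge (by rintro _ ⟨y, hy, rfl⟩; exact hk y hy)
      (Subgroup.card_map_of_injective (MulEquiv.injective _)).ge)
  have hjn : ∀ y ∈ H, j * y * j⁻¹ ∈ H := by
    rintro _ ⟨g, hg, rfl⟩
    refine ⟨⟨e, hB.memE e heE⟩ * g * ⟨e, hB.memE e heE⟩⁻¹, ?_, by rw [map_mul, map_mul, map_inv]⟩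
    show (e * (g : G) * e⁻¹) • p = p
    have hg' : (g : G) • p = p := hg
    rw [inv_eq_of_mul_eq_one_right (hEsq e heE), mul_smul, mul_smul, ← hvep, ← mul_smul (g : G) v,
      (commute_of_mem_cGrp g.2).eq, mul_smul, hg', hvep, ← mul_smul, hEsq e heE, one_smul]
  have hwperm : fixPermOf (Ω := Ω) (hsub w hw).2.2.1 = 1 :=
    Equiv.ext fun y => Subtype.ext (hm.R_fix w hw y y.2)
  have hwconj : ∀ g : cGrp D v, π (conjCGrp h (hsub w hw).2.2.1 g) = π g := fun g => Subtype.ext (by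
    rw [hπ, ← fixPermOf_conj h (hsub w hw).2.2.1 g, hwperm, one_mul, inv_one, mul_one])
  have hww : w * w = 1 := hm.R_sq w hw
  have hj'n : ∀ y ∈ H, j' * y * j'⁻¹ ∈ H := by
    rintro _ ⟨g, hg, rfl⟩
    refine ⟨⟨e', hB.memE e' he'E⟩ * conjCGrp h (hsub w hw).2.2.1 g * ⟨e', hB.memE e' he'E⟩⁻¹, ?_,
      by rw [map_mul, map_mul, map_inv, hwconj]⟩
    show (e' * ((conjCGrp h (hsub w hw).2.2.1 g : cGrp D v) : G) * e'⁻¹) • p = p
    have hg' : (g : G) • p = p := hg
    rw [conjCGrp_coe, inv_eq_of_mul_eq_one_right (hEsq e' he'E), inv_eq_of_mul_eq_one_right hww, mul_smul,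
      mul_smul, mul_smul, mul_smul, ← hwep, ← mul_smul w w, hww, one_smul, hg', hwep, ← mul_smul,
      hEsq e' he'E, one_smul]
  have hjinj : ∀ {f f' : G} (hf1 : f ∈ E) (hf2 : f' ∈ E),
      π ⟨f, hB.memE f hf1⟩ = π ⟨f', hB.memE f' hf2⟩ → f = f' := fun hf1 hf2 e1 => hB.inj _ hf1 _ hf2 e1
  have hmulj : j * j' = π ⟨e * e', hB.memE _ (mul_mem heE he'E)⟩ := by
    rw [hj, hj', ← map_mul]; rfl
  have hee1 : e * e' ≠ 1 := fun e1 => hee' (by
    rw [eq_inv_of_mul_eq_one_left e1]; exact inv_eq_of_mul_eq_one_right (hEsq e' he'E))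
  have hHa : H ≤ stabilizer (cImage Ω D v) a' := by
    refine CfsgLib.Bender.le_of_four_centralizers hHodd
      (orderOf_eq_prime (by rw [pow_two]; exact (hJ e heE he1).2.2) (hJ e heE he1).2.1)
      (orderOf_eq_prime (by rw [pow_two]; exact (hJ e' he'E he'1).2.2) (hJ e' he'E he'1).2.1)
      ?_ (fun e1 => hee' (hjinj heE he'E e1)) (hconj hjn) (hconj hj'n) ?_
    · rw [hmulj, ← map_mul]
      congr 1
      exact Subtype.ext (hl.comm e' he'E e heE).symm.eq
    · intro y hy k hk hyk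
      obtain ⟨hkJ, -⟩ : k ∈ Cfsg.involutionsIn (stabilizer (cImage Ω D v) a' : Set (cImage Ω D v)) ∧ True := by
        refine ⟨?_, trivial⟩
        rcases hk with rfl | rfl | rfl
        · exact hJ e heE he1
        · exact hJ e' he'E he'1
        · rw [hmulj]; exact hJ _ (mul_mem heE he'E) hee1
      refine (fix_iff hS (J_mem_Q hS hkJ) hkJ.2.1).1 ?_
      have hka : k • a' = a' := hkJ.1
      rw [← mul_smul, ← hyk, mul_smul, hka]
  have hHc : H ≤ stabilizer (cImage Ω D v) a' ⊓ centralizer {j} := by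
    refine fun y hy => ⟨hHa hy, mem_centralizer_singleton_iff.2 ?_⟩
    have hjz : j * j = 1 := (hJ e heE he1).2.2
    have hZ1 : y * j * y⁻¹ * j ∈ involutionGroup hS h2 :=
      mul_mem (Or.inr (conj_mem_J hS (hJ e heE he1) (hHa hy))) (Or.inr (hJ e heE he1))
    have hZ2 : y * j * y⁻¹ * j ∈ H := by
      have := mul_mem hy (hjn _ (inv_mem hy))
      rwa [inv_eq_of_mul_eq_one_right hjz, show y * (j * y⁻¹ * j) = y * j * y⁻¹ * j by group] at this
    have hone : y * j * y⁻¹ * j = 1 := by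
      refine orderOf_eq_one_iff.1 (Nat.eq_one_of_dvd_coprimes (Nat.coprime_two_left.2 hHodd)
        (orderOf_dvd_of_pow_eq_one ?_) (Subgroup.orderOf_dvd_natCard H hZ2))
      rw [pow_two]
      exact congrArg Subtype.val (CfsgLib.OddTransitive.RankOne.sq_eq_one hS h2 ⟨_, hZ1⟩)
    have h3 := eq_inv_of_mul_eq_one_left hone
    rw [inv_eq_of_mul_eq_one_right hjz] at h3
    exact mul_inv_eq_iff_eq_mul.1 h3
  -- its index
  have hlow : q ^ 3 * (q - 1) * Nat.card H ≤ Nat.card (stabilizer (cImage Ω D v) a') := by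
    set C := stabilizer (cImage Ω D v) a' ⊓ centralizer {j} with hC
    have hUC : U ≤ C := fun y hy =>
      ⟨hS.le hy, mem_centralizer_singleton_iff.2 (J_central hS h2 (hJ e heE he1) hy).symm⟩
    have h1 : q ^ 3 * Nat.card H ≤ Nat.card C := by
      rw [← hB.card_U]
      refine Nat.le_of_dvd Nat.card_pos (Nat.Coprime.mul_dvd_of_dvd_of_dvd ?_ (card_dvd_of_le hUC)
        (card_dvd_of_le hHc))
      obtain ⟨n, hn⟩ := hB.two.exists_card_eq
      rw [hn]
      exact (Nat.coprime_two_left.2 hHodd).pow_left n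
    have h2' : (q - 1) * Nat.card C ≤ Nat.card (stabilizer (cImage Ω D v) a') := by
      rw [← hqJ, ← Nat.card_prod]
      choose k hk _ using fun s : Cfsg.involutionsIn (stabilizer (cImage Ω D v) a' : Set (cImage Ω D v)) =>
        exists_unique_K hS (hJ e heE he1) s.2
      refine Nat.card_le_card_of_injective (fun sc => (⟨(sc.2 : cImage Ω D v) * k sc.1,
        mul_mem sc.2.2.1 (mem_D.1 (hk sc.1).1.1).1⟩ : stabilizer (cImage Ω D v) a')) ?_
      rintro ⟨s, y⟩ ⟨s', y'⟩ e1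
      have e2 : (y : cImage Ω D v) * k s = y' * k s' := congrArg Subtype.val e1
      have key : ∀ (s) (y : C), ((y : cImage Ω D v) * k s)⁻¹ * j * ((y : cImage Ω D v) * k s) = s := fun s y => by
        have hyj := mem_centralizer_singleton_iff.1 y.2.2
        rw [mul_inv_rev, mul_assoc, mul_assoc, ← mul_assoc j, ← hyj, mul_assoc, inv_mul_cancel_left,
          ← mul_assoc]
        exact (hk s).2
      have hss : s = s' := Subtype.ext (by rw [← key s y, e2, key s' y'])
      subst hss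
      exact Prod.ext rfl (Subtype.ext (mul_right_cancel e2))
    calc q ^ 3 * (q - 1) * Nat.card H = (q - 1) * (q ^ 3 * Nat.card H) := by ring
      _ ≤ _ := (Nat.mul_le_mul_left _ h1).trans h2'
  have hLbar : Nat.card (cImage Ω D v) = (q ^ 3 + 1) * Nat.card (stabilizer (cImage Ω D v) a') := by
    haveI := hS.two_transitive
    haveI : IsPretransitive (cImage Ω D v) (MulAction.fixedBy Ω v) :=
      MulAction.isPretransitive_of_is_two_pretransitive
    rw [← hl.card_fix, ← (stabilizer (cImage Ω D v) a').card_mul_index, index_stabilizer_of_transitive, mul_comm]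
    rfl
  have hkerc : Nat.card (cGrp D v) = Nat.card π.ker * Nat.card (cImage Ω D v) := by
    rw [← π.ker.card_mul_index, Subgroup.index_ker, MonoidHom.range_eq_top.2 hπsurj, Subgroup.card_top]
  have hStc : Nat.card St = Nat.card (π.ker.subgroupOf St) * Nat.card H := by
    rw [← (π.ker.subgroupOf St).card_mul_index,
      show π.ker.subgroupOf St = (π.domRestrict St).ker by rw [MonoidHom.ker_domRestrict],
      Subgroup.index_ker, MonoidHom.domRestrict_range]
  -- the orbit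
  have horbsub : MulAction.orbit (cGrp D v) p ⊆ {y | v • y ≠ y} := by
    rintro _ ⟨g, rfl⟩ e1
    have e2 : v • ((g : G) • p) = (g : G) • p := e1
    rw [← mul_smul, ← (commute_of_mem_cGrp g.2).eq, mul_smul, smul_left_cancel_iff] at e2
    exact hvp e2
  obtain ⟨g, r, c₀, c', -, hrc, hgo, hro, hrg, -, hmC, hmA, hcnt, hiff⟩ :=
    hform v a b E q 3 hFr.toTopFrame t ht htv hta
  have hn : Nat.card {y : Ω // v • y ≠ y} + (q ^ 3 + 1) = Nat.card Ω := by
    rw [← hl.card_fix]
    haveI := Fintype.ofFinite Ω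
    rw [Nat.card_eq_fintype_card, Nat.card_eq_fintype_card, Nat.card_eq_fintype_card]
    rw [Fintype.card_subtype_compl]
    have := Fintype.card_subtype_le (fun y : Ω => v • y = y)
    omega
  set N := Nat.card (MulAction.orbit (cGrp D v) p) with hN
  set M := Nat.card {y : Ω // v • y ≠ y} with hM
  have hNM : N ≤ M := Nat.card_mono (Set.toFinite _) horbsub
  have horb : N * Nat.card St = Nat.card (cGrp D v) := by
    rw [hN, Nat.card_coe_set_eq, ← MulAction.index_stabilizer, mul_comm]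
    exact St.card_mul_index
  set B := (q ^ 3 + 1) * (q - 1) * q ^ 3 with hBdef
  have hH0 : 0 < Nat.card H := Nat.card_pos
  have hkle : Nat.card (π.ker.subgroupOf St) ≤ Nat.card π.ker :=
    Nat.card_le_card_of_injective (fun y => (⟨((y : St) : cGrp D v), y.2⟩ : π.ker)) fun y y' e1 =>
      Subtype.ext (Subtype.ext (congrArg Subtype.val e1 :))
  have hA : Nat.card π.ker * B ≤ N * Nat.card (π.ker.subgroupOf St) := by
    refine Nat.le_of_mul_le_mul_right ?_ hH0
    rw [mul_assoc N, ← hStc, horb, hkerc, hLbar, mul_assoc]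
    refine Nat.mul_le_mul_left _ ?_
    rw [hBdef, mul_assoc, mul_assoc]
    refine Nat.mul_le_mul_left _ (le_of_eq_of_le ?_ hlow)
    ring
  have hg0 : 0 < g := hgo.pos
  have hMB : M ≤ B := by
    have h1 : g * (Nat.card Ω - 1) ≤ g * (q ^ 3 * (1 + (q ^ 3 + 1) * (q - 1))) := by
      rw [hcnt, show g * (q ^ 3 * (1 + (q ^ 3 + 1) * (q - 1))) = q ^ 3 * (g + (q ^ 3 + 1) * (q - 1) * g) by ring]
      exact Nat.mul_le_mul_left _ (Nat.add_le_add_left (Nat.mul_le_mul_left _ hrg) _)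
    have h2 := Nat.le_of_mul_le_mul_left h1 hg0
    have h3 : q ^ 3 * (1 + (q ^ 3 + 1) * (q - 1)) = q ^ 3 + B := by rw [hBdef]; ring
    omega
  have hB0 : 0 < B := by
    have h2 : 0 < q ^ 3 := pow_pos (by omega) _
    have h4 : 0 < q - 1 := by omega
    positivity
  have hNB : N = B := by
    refine le_antisymm (hNM.trans hMB) (Nat.le_of_mul_le_mul_left ?_ (Nat.card_pos (α := π.ker)))
    exact hA.trans (by rw [mul_comm]; exact Nat.mul_le_mul_right _ hkle)
  have hkeq : Nat.card π.ker ≤ Nat.card (π.ker.subgroupOf St) :=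
    Nat.le_of_mul_le_mul_left (by rw [mul_comm B]; exact hA.trans (le_of_eq (by rw [hNB]))) hB0
  -- the kernel is trivial
  have hkp : ∀ k ∈ π.ker, (k : G) • p = p := by
    let F : π.ker.subgroupOf St → π.ker := fun y => ⟨((y : St) : cGrp D v), y.2⟩
    have hFi : Function.Injective F := fun y y' e1 => Subtype.ext (Subtype.ext (congrArg Subtype.val e1 :))
    have hbij : Function.Bijective F :=
      (Nat.bijective_iff_injective_and_card F).2 ⟨hFi, le_antisymm hkle hkeq⟩
    intro k hk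
    obtain ⟨y, hy⟩ := hbij.2 ⟨k, hk⟩
    rw [← show ((y : St) : cGrp D v) = k from congrArg Subtype.val hy]
    exact (y : St).2
  have horbeq : MulAction.orbit (cGrp D v) p = {y | v • y ≠ y} :=
    Set.eq_of_subset_of_ncard_le horbsub (by
      rw [← Nat.card_coe_set_eq, ← Nat.card_coe_set_eq]
      exact hMB.trans hNB.ge) (Set.toFinite _)
  have hπinj : Function.Injective π := by
    refine (MonoidHom.ker_eq_bot_iff π).1 ((Subgroup.eq_bot_iff_forall _).2 fun k hk => Subtype.ext (hf _ fun y => ?_))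
    by_cases hy : v • y = y
    · exact congrArg Subtype.val (congrArg (fun σ : cImage Ω D v => σ • (⟨y, hy⟩ : MulAction.fixedBy Ω v)) hk :
        π k • (⟨y, hy⟩ : MulAction.fixedBy Ω v) = (1 : cImage Ω D v) • ⟨y, hy⟩)
    · have hy' : y ∈ MulAction.orbit (cGrp D v) p := horbeq.symm ▸ hy
      obtain ⟨l, rfl⟩ := hy'
      have hk' : l⁻¹ * k * l ∈ π.ker := by
        have := Subgroup.Normal.conj_mem inferInstance k hk l⁻¹
        rwa [inv_inv] at this
      have h1 : ((l : G)⁻¹ * k * l) • p = p := hkp _ hk'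
      rw [mul_smul, mul_smul, inv_smul_eq_iff] at h1
      exact h1
  -- the formula
  have hgr : g = r := by
    refine le_antisymm ?_ hrg
    have h1 : q ^ 3 * (g + (q ^ 3 + 1) * (q - 1) * g) ≤ q ^ 3 * (g + (q ^ 3 + 1) * (q - 1) * r) := by
      rw [← hcnt, show q ^ 3 * (g + (q ^ 3 + 1) * (q - 1) * g) = g * (q ^ 3 + B) by rw [hBdef]; ring]
      exact Nat.mul_le_mul_left _ (by omega)
    have h2 : 0 < q ^ 3 := pow_pos (by omega) _
    have h3 := Nat.le_of_add_le_add_left (Nat.le_of_mul_le_mul_left h1 h2)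
    have h4 : 0 < q - 1 := by omega
    exact Nat.le_of_mul_le_mul_left h3 (by positivity)
  have hEcard : Nat.card {f : G // f ∈ E ∧ f ≠ 1} = q - 1 := by
    haveI := Fintype.ofFinite E
    let φ : {f : G // f ∈ E ∧ f ≠ 1} ≃ {f : E // f ≠ 1} :=
      { toFun := fun f => ⟨⟨f.1, f.2.1⟩, fun e1 => f.2.2 (congrArg Subtype.val e1)⟩
        invFun := fun f => ⟨(f.1 : G), f.1.2, fun e1 => f.2 (Subtype.ext e1)⟩
        left_inv := fun _ => rfl
        right_inv := fun _ => rfl }
    rw [← hl.card_E, Nat.card_congr φ, Nat.card_eq_fintype_card, Nat.card_eq_fintype_card,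
      Fintype.card_subtype_compl, Fintype.card_subtype_eq]
  have hc1 : c₀ = 1 := by
    have hle : Nat.card (memsC D v a) ≤ q - 1 := by
      rw [← hqJ]
      refine Nat.card_le_card_of_injective (fun d => ⟨π ⟨d.1, mem_cGrp d.2.1 d.2.2.2⟩, Subtype.ext d.2.2.1,
        (h.cImage_crit hv).ne_one' (h.cProj_mem (d := ⟨d.1, mem_cGrp d.2.1 d.2.2.2⟩) d.2.1),
        (h.cImage_crit hv).sq (h.cProj_mem (d := ⟨d.1, mem_cGrp d.2.1 d.2.2.2⟩) d.2.1)⟩) fun d d' e1 =>
          Subtype.ext (congrArg Subtype.val (hπinj (congrArg Subtype.val e1 :)) :)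
    rw [hmC] at hle
    have h4 : 0 < q - 1 := by omega
    have h5 : c₀ ≤ 1 := Nat.le_of_mul_le_mul_left (by rwa [mul_one]) h4
    by_contra hne
    have h6 : Nat.card (memsC D v a) = 0 := by rw [hmC, show c₀ = 0 by omega, mul_zero]
    haveI : Nonempty (memsC D v a) := ⟨⟨e, hl.mem e heE he1⟩⟩
    exact Nat.card_pos.ne' h6
  have hr1 : r = 1 := Nat.dvd_one.1 ⟨c', (hrc.trans hc1).symm⟩
  have hc'1 : c' = 1 := by rw [hr1, one_mul] at hrc; omega
  have hmems : ∀ d ∈ D, d • a = a → d ∈ E := by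
    have heq : {f : G | f ∈ E ∧ f ≠ 1} = mems D a := by
      refine Set.eq_of_subset_of_ncard_le (fun f hf' => ⟨(hl.mem f hf'.1 hf'.2).1, (hl.mem f hf'.1 hf'.2).2.1⟩) ?_
        (Set.toFinite _)
      rw [← Nat.card_coe_set_eq, ← Nat.card_coe_set_eq, hmA, hc1, hgr, hr1, hc'1,
        show Nat.card {f : G | f ∈ E ∧ f ≠ 1} = q - 1 from hEcard]
      omega
    intro d hd hda
    exact (heq.symm.subset ⟨hd, hda⟩).1
  have hmemsB : ∀ d ∈ D, d • b = b → ∃ f ∈ E, f ≠ 1 ∧ d = t * f * t := by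
    intro d hd hdb
    have ht2 := h.sq ht
    refine ⟨t * d * t, hmems _ ?_ ?_, fun e1 => h.ne_one' hd ?_, ?_⟩
    · have := h.conj d hd t
      rwa [inv_eq_of_mul_eq_one_right ht2] at this
    · rw [mul_smul, mul_smul, hta, hdb, h.swap_back' ht hta]
    · calc d = t * (t * d * t) * t := by simp only [mul_assoc]; rw [ht2, mul_one, ← mul_assoc, ht2, one_mul]
        _ = 1 := by rw [e1, mul_one, ht2]
    · simp only [mul_assoc]; rw [ht2, mul_one, ← mul_assoc, ht2, one_mul]
  refine ⟨⟨q ^ 3 - q ^ 2 + 1, ?_, ?_⟩, hmems, ?_, ?_⟩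
  · obtain ⟨s, hs, rfl⟩ := hl.pow
    refine Even.add_one ((Nat.even_sub (Nat.pow_le_pow_right (Nat.two_pow_pos s) (by norm_num))).2
      ⟨fun _ => ?_, fun _ => ?_⟩) <;>
      exact Nat.even_pow.2 ⟨Nat.even_pow.2 ⟨even_two, by omega⟩, by norm_num⟩
  · have h5 : q ^ 2 ≤ q ^ 3 := Nat.pow_le_pow_right (by omega) (by norm_num)
    have h6 : q ^ 4 * (q ^ 3 - q ^ 2 + 1) = q ^ 3 + B := by
      rw [hBdef]
      zify [h5, show 1 ≤ q by omega]
      ring
    omega
  · intro d hd hdb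
    obtain ⟨f, hf', hf1, rfl⟩ := hmemsB d hd hdb
    exact (htv.mul_left (hl.mem f hf' hf1).2.2).mul_left htv
  · intro d hd hdb
    obtain ⟨f, hf', hf1, rfl⟩ := hmemsB d hd hdb
    obtain ⟨hU3, ⟨w₀, hw₀, hw₀1⟩, hW⟩ : Nat.card U = qq (cImage Ω D v) a' ^ 3 ∧ (∃ w ∈ Wg a' (π τ), w ≠ 1) ∧
        ∀ w ∈ Wg a' (π τ), w ≠ 1 → ∀ y ∈ U, w * y = y * w →
          y = 1 ∨ y ∈ Cfsg.involutionsIn (stabilizer (cImage Ω D v) a' : Set (cImage Ω D v)) := by
      have hpow : ∀ {m n : ℕ}, q ^ m = q ^ n → m = n := fun e1 =>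
        Nat.pow_right_injective (by omega) e1
      rcases CfsgLib.RankOneInter.TIAuto.shape_cases hS h2 with h1 | ⟨-, h1⟩ | h1
      · rw [hB.card_U, hB.qq_eq] at h1
        exact absurd (hpow (h1.trans (pow_one q).symm)) (by norm_num)
      · rw [hB.card_U, hB.qq_eq] at h1
        exact absurd (hpow h1) (by norm_num)
      · exact h1
    obtain ⟨hwD, hwJ⟩ := mem_Wg.1 hw₀
    have hwa : w₀ • a' = a' := (mem_D.1 hwD).1
    have hwb : w₀ • b' = b' := hτa ▸ (mem_D.1 hwD).2
    have hwt : w₀ * π τ = π τ * w₀ := (mem_Vg.1 (Wg_le_Vg hS hw₀)).2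
    set φ := π ⟨f, hB.memE f hf'⟩ with hφ
    set y0 := π τ • (φ • b') with hy0
    have hy0val : (y0 : Ω) = (t * f * t) • a := by
      show t • (f • b) = _
      rw [mul_smul, mul_smul, hta]
    have hwy : w₀ • y0 = y0 := by
      rw [hy0, ← mul_smul, hwt, mul_smul, ← mul_smul w₀, hwJ _ (hJ f hf' hf1), mul_smul, hwb]
    have hy0a : y0 ≠ a' := fun e1 => by
      have e2 : φ • b' = b' := by
        have e3 : π τ • y0 = π τ • a' := congrArg (fun c => π τ • c) e1
        rw [hy0, ← mul_smul (π τ) (π τ), hS.mul_self, one_smul, hτa] at e3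
        exact e3
      exact hab' ((fix_iff hS (J_mem_Q hS (hJ f hf' hf1)) (hJ f hf' hf1).2.1).1 e2)
    obtain ⟨⟨z, hz⟩, hzy, huniq⟩ := CfsgLib.Lie.RankOne.existsUnique_smul hS b' y0 hab' hy0a
    have hzy' : z • b' = y0 := hzy
    have hcomm : w₀ * z * w₀⁻¹ = z := congrArg Subtype.val (huniq ⟨w₀ * z * w₀⁻¹, hS.conj_mem w₀ hwa z hz⟩ (by
      show (w₀ * z * w₀⁻¹) • b' = y0
      rw [mul_smul, mul_smul, inv_smul_eq_iff.2 hwb.symm, hzy', hwy]))
    rw [← hy0val, ← hzy']
    rcases hW w₀ hw₀ hw₀1 z hz (mul_inv_eq_iff_eq_mul.1 hcomm) with h1 | h1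
    · exact ⟨1, one_mem _, by rw [h1, one_smul, one_smul]⟩
    · obtain ⟨f', hf'', -, hfz⟩ := hB.J_onto z h1
      exact ⟨f', hf'', by rw [← hfz]; rfl⟩

end Crit

end CfsgLib.AschCrit
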