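import Cfsg.Agent.Lib.Invol.AschCrit.Kernel.Orbit

/-!
Owner: helper29. Aschbacher's criterion, the kernel of unitary type: when it is not of order two, `P` is a Sylow group of
the centraliser of `E` at `a`.

* `Crit.comm_mem_of_two`: so the commutators of a two-group centralising `E` at `a` lie in `E`.
* `relIndex_dvd_index_of_normal'`: the part of a subgroup in a normal subgroup.
-/

set_option autoImplicit false
set_option linter.unusedSectionVars false
set_option linter.style.haveILetI false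

namespace CfsgLib.AschCrit

open Subgroup MulAction

universe u

theorem relIndex_dvd_index_of_normal' {H : Type*} [Group H] [Finite H] (P N : Subgroup H) [N.Normal] :
    P.relIndex N ∣ P.index := by
  have h1 : Nat.card ↥(P ⊓ N) * N.relIndex P = Nat.card P := by
    rw [← relIndex_bot_left, ← relIndex_bot_left, ← inf_relIndex_left P N]
    exact relIndex_mul_relIndex ⊥ (P ⊓ N) P bot_le inf_le_left
  have h2 : Nat.card N * N.relIndex P = Nat.card ↥(P ⊔ N) := by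
    rw [← relIndex_bot_left, ← relIndex_bot_left, ← relIndex_sup_right P N]
    exact relIndex_mul_relIndex ⊥ N (P ⊔ N) bot_le le_sup_right
  have h3 : Nat.card ↥(P ⊓ N) * P.relIndex N = Nat.card N := by
    rw [← relIndex_bot_left, ← relIndex_bot_left, ← inf_relIndex_right P N]
    exact relIndex_mul_relIndex ⊥ (P ⊓ N) N bot_le inf_le_right
  have h4 : Nat.card P * P.relIndex (P ⊔ N) = Nat.card ↥(P ⊔ N) := by
    rw [← relIndex_bot_left, ← relIndex_bot_left]
    exact relIndex_mul_relIndex ⊥ P (P ⊔ N) bot_le le_sup_left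
  have h5 : P.relIndex N = P.relIndex (P ⊔ N) := by
    refine Nat.eq_of_mul_eq_mul_left (Nat.card_pos (α := P)) ?_
    rw [h4, ← h2, ← h1]
    calc Nat.card ↥(P ⊓ N) * N.relIndex P * P.relIndex N = Nat.card ↥(P ⊓ N) * P.relIndex N * N.relIndex P := by ring
      _ = _ := by rw [h3]
  rw [h5]
  exact ⟨_, (relIndex_mul_index (le_sup_left : P ≤ P ⊔ N)).symm⟩

variable {G : Type u} [Group G] [Finite G] {Ω : Type u} [MulAction G Ω]

namespace Crit

variable {D : Set G} (h : Crit Ω D)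
include h

/-- The commutators of a two-group centralising `E` at `a` lie in `E`. -/
theorem comm_mem_of_two (horb : OrbitBound Ω D) {v : G} {a b : Ω} {E : Subgroup G} {q : ℕ}
    {P R X Q : Subgroup G} {t₀ : G} (hFr : Frame D v a b E q 3) (hm : ModelAt D v a b E q 3 P R X Q t₀)
    (hT : KernelTight D v a b E q) {K : Subgroup G} (hK : IsPGroup 2 K)
    (hKM : K ≤ stabilizer G a ⊓ centralizer (E : Set G)) : ∀ g ∈ K, ∀ k ∈ K, g * k * g⁻¹ * k⁻¹ ∈ E := by
  classical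
  haveI := Fact.mk Nat.prime_two
  have hEc : ∀ g ∈ P, ∀ e ∈ E, Commute g e := fun g hg => (hm.sub g hg).2.1
  -- commutators in `P`
  have hmulR : ∀ g k k' : G, k ∈ P → g * k * g⁻¹ * k⁻¹ ∈ E → g * k' * g⁻¹ * k'⁻¹ ∈ E →
      g * (k * k') * g⁻¹ * (k * k')⁻¹ ∈ E := fun g k k' hk h1 h2 => by
    rw [show g * (k * k') * g⁻¹ * (k * k')⁻¹ =
      g * k * g⁻¹ * k⁻¹ * (k * (g * k' * g⁻¹ * k'⁻¹) * k⁻¹) by group, (hEc k hk _ h2).eq, mul_inv_cancel_right]
    exact mul_mem h1 h2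
  have hsymm : ∀ g k : G, g * k * g⁻¹ * k⁻¹ ∈ E → k * g * k⁻¹ * g⁻¹ ∈ E := fun g k h1 => by
    rw [show k * g * k⁻¹ * g⁻¹ = (g * k * g⁻¹ * k⁻¹)⁻¹ by group]; exact inv_mem h1
  have hcomm : ∀ {g k : G}, Commute g k → g * k * g⁻¹ * k⁻¹ ∈ E := fun {g k} h1 => by
    rw [h1.eq, mul_inv_cancel_right, mul_inv_cancel]; exact one_mem _
  have hgens : ∀ g k : G, (g ∈ R ∨ g ∈ X ∨ g ∈ Q) → (k ∈ R ∨ k ∈ X ∨ k ∈ Q) → g * k * g⁻¹ * k⁻¹ ∈ E := by
    intro g k hg hk
    rcases hg with hg | hg | hg <;> rcases hk with hk | hk | hk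
    · refine hcomm ?_
      have h1 := hm.R_sq _ (mul_mem hg hk)
      show g * k = k * g
      rw [← inv_eq_of_mul_eq_one_right h1, mul_inv_rev, inv_eq_of_mul_eq_one_right (hm.R_sq g hg),
        inv_eq_of_mul_eq_one_right (hm.R_sq k hk)]
    · exact hm.RX g hg k hk
    · exact hcomm ((hm.Q_cent k hk).2 g hg).symm
    · exact hsymm _ _ (hm.RX k hk g hg)
    · exact hcomm (hm.X_comm g hg k hk)
    · exact hm.XQ g hg k hk
    · exact hcomm ((hm.Q_cent g hg).2 k hk)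
    · exact hsymm _ _ (hm.XQ k hk g hg)
    · exact hm.QQ g hg k hk
  have hone : ∀ g : G, (g ∈ R ∨ g ∈ X ∨ g ∈ Q) → ∀ k ∈ P, g * k * g⁻¹ * k⁻¹ ∈ E := by
    intro g hg k hk
    obtain ⟨r, hr, x, hx, y, hy, rfl⟩ := hm.gen k hk
    refine hmulR _ _ _ (mul_mem (hm.R_le hr) (hm.X_le hx)) (hmulR _ _ _ (hm.R_le hr) ?_ ?_) ?_
    · exact hgens g r hg (Or.inl hr)
    · exact hgens g x hg (Or.inr (Or.inl hx))
    · exact hgens g y hg (Or.inr (Or.inr hy))
  have hP : ∀ g ∈ P, ∀ k ∈ P, g * k * g⁻¹ * k⁻¹ ∈ E := by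
    intro g hg k hk
    refine hsymm _ _ ?_
    obtain ⟨r, hr, x, hx, y, hy, rfl⟩ := hm.gen g hg
    refine hmulR _ _ _ (mul_mem (hm.R_le hr) (hm.X_le hx)) (hmulR _ _ _ (hm.R_le hr) ?_ ?_) ?_
    · exact hsymm _ _ (hone r (Or.inl hr) k hk)
    · exact hsymm _ _ (hone x (Or.inr (Or.inl hx)) k hk)
    · exact hsymm _ _ (hone y (Or.inr (Or.inr hy)) k hk)
  -- `P` is a Sylow group
  set M := stabilizer G a ⊓ centralizer (E : Set G) with hM
  have hmemM : ∀ {g : G}, g ∈ M → g • a = a ∧ ∀ e ∈ E, Commute g e := fun hg =>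
    ⟨hg.1, fun e he => (Subgroup.mem_centralizer_iff.1 hg.2 e he).symm⟩
  have hbound : ∀ K' : Subgroup G, IsPGroup 2 K' → K' ≤ M → Nat.card K' ≤ Nat.card P := by
    intro K' hK' hle
    obtain ⟨m, hm', hn⟩ := hT.count
    have h1 := (horb v a b E q 3 hFr K' hK' fun g hg => hmemM (hle hg)).2
    rw [← hm.R_card, hn, mul_assoc, mul_comm m, ← mul_assoc] at h1
    obtain ⟨n, hn'⟩ := hK'.exists_card_eq
    have h2 : Nat.card K' ∣ q ^ 4 * Nat.card R := Nat.Coprime.dvd_of_dvd_mul_right (by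
      rw [hn']; exact (Nat.coprime_two_left.2 hm').pow_left n) h1
    rw [hm.P_card]
    exact Nat.le_of_dvd (mul_pos (pow_pos (by have := four_le_q hFr.data; omega) _) Nat.card_pos) h2
  have hPM : P ≤ M := fun g hg => ⟨(hm.sub g hg).1,
    Subgroup.mem_centralizer_iff.2 fun e he => (hEc g hg e he).symm.eq⟩
  obtain ⟨S, hS⟩ := (hm.two.comap_subtype (K := M)).exists_le_sylow
  have hSP : (S : Subgroup M).map M.subtype = P := by
    have hle : P ≤ (S : Subgroup M).map M.subtype := fun g hg => ⟨⟨g, hPM hg⟩, hS hg, rfl⟩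
    exact (eq_of_le_of_card_ge hle (hbound _ (S.2.map _) (map_subtype_le _))).symm
  obtain ⟨T, hT'⟩ := (hK.comap_subtype (K := M)).exists_le_sylow
  obtain ⟨c, hc⟩ := MulAction.exists_smul_eq M T S
  intro g hg k hk
  have hin : ∀ x (hx : x ∈ K), (c : G) * x * (c : G)⁻¹ ∈ P := fun x hx => by
    rw [← hSP]
    refine ⟨c * ⟨x, hKM hx⟩ * c⁻¹, ?_, by simp⟩
    rw [← hc, SetLike.mem_coe, Sylow.coe_subgroup_smul, Subgroup.mem_pointwise_smul_iff_inv_smul_mem]
    convert hT' (show (⟨x, hKM hx⟩ : M) ∈ K.comap M.subtype from hx) using 1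
    show (MulAut.conj c)⁻¹ _ = _
    rw [← map_inv, MulAut.conj_apply, inv_inv]
    group
  have h1 := hP _ (hin g hg) _ (hin k hk)
  set e := (c : G) * g * (c : G)⁻¹ * ((c : G) * k * (c : G)⁻¹) * ((c : G) * g * (c : G)⁻¹)⁻¹ *
    ((c : G) * k * (c : G)⁻¹)⁻¹ with he
  have h2 : g * k * g⁻¹ * k⁻¹ = (c : G)⁻¹ * e * (c : G) := by rw [he]; group
  rw [h2, mul_assoc, ← ((hmemM c.2).2 e h1).eq, inv_mul_cancel_left]
  exact h1

end Crit

end CfsgLib.AschCrit
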